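import Cfsg.Agent.Lib.InvChar.SporData.HN.T12600.Data

set_option autoImplicit false
set_option maxRecDepth 100000

namespace CfsgLib.InvChar.SporHN.T12600

open CfsgLib.InvChar.Coset CfsgLib.KnownA

theorem chk_facts12 : cert.chkBlocks 60 720 = true := by decide +kernel

end CfsgLib.InvChar.SporHN.T12600
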