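import Cfsg.Agent.Lib.InvChar.SporData.HN.T12600.F0
import Cfsg.Agent.Lib.InvChar.SporData.HN.T12600.F1
import Cfsg.Agent.Lib.InvChar.SporData.HN.T12600.F2
import Cfsg.Agent.Lib.InvChar.SporData.HN.T12600.F3
import Cfsg.Agent.Lib.InvChar.SporData.HN.T12600.F4
import Cfsg.Agent.Lib.InvChar.SporData.HN.T12600.F5
import Cfsg.Agent.Lib.InvChar.SporData.HN.T12600.F6
import Cfsg.Agent.Lib.InvChar.SporData.HN.T12600.F7
import Cfsg.Agent.Lib.InvChar.SporData.HN.T12600.F8
import Cfsg.Agent.Lib.InvChar.SporData.HN.T12600.F9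
import Cfsg.Agent.Lib.InvChar.SporData.HN.T12600.F10
import Cfsg.Agent.Lib.InvChar.SporData.HN.T12600.F11
import Cfsg.Agent.Lib.InvChar.SporData.HN.T12600.F12
import Cfsg.Agent.Lib.InvChar.SporData.HN.T12600.F13

/-! The assembled certificate. -/

set_option autoImplicit false
set_option maxRecDepth 100000

namespace CfsgLib.InvChar.SporHN.T12600

open CfsgLib.InvChar.Coset CfsgLib.KnownA

theorem facts_ok : ∀ j < 823, cert.chkRun 128 (j * 128) (cert.just.get j) = true := by
  intro j hj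
  rcases Nat.lt_or_ge j 60 with h0 | h0
  · obtain ⟨t, rfl⟩ : ∃ t, j = 0 + t := ⟨j - 0, by omega⟩
    exact cert.chkBlocks_get 60 0 chk_facts0 t (by omega)
  rcases Nat.lt_or_ge j 120 with h1 | h1
  · obtain ⟨t, rfl⟩ : ∃ t, j = 60 + t := ⟨j - 60, by omega⟩
    exact cert.chkBlocks_get 60 60 chk_facts1 t (by omega)
  rcases Nat.lt_or_ge j 180 with h2 | h2
  · obtain ⟨t, rfl⟩ : ∃ t, j = 120 + t := ⟨j - 120, by omega⟩
    exact cert.chkBlocks_get 60 120 chk_facts2 t (by omega)
  rcases Nat.lt_or_ge j 240 with h3 | h3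
  · obtain ⟨t, rfl⟩ : ∃ t, j = 180 + t := ⟨j - 180, by omega⟩
    exact cert.chkBlocks_get 60 180 chk_facts3 t (by omega)
  rcases Nat.lt_or_ge j 300 with h4 | h4
  · obtain ⟨t, rfl⟩ : ∃ t, j = 240 + t := ⟨j - 240, by omega⟩
    exact cert.chkBlocks_get 60 240 chk_facts4 t (by omega)
  rcases Nat.lt_or_ge j 360 with h5 | h5
  · obtain ⟨t, rfl⟩ : ∃ t, j = 300 + t := ⟨j - 300, by omega⟩
    exact cert.chkBlocks_get 60 300 chk_facts5 t (by omega)
  rcases Nat.lt_or_ge j 420 with h6 | h6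
  · obtain ⟨t, rfl⟩ : ∃ t, j = 360 + t := ⟨j - 360, by omega⟩
    exact cert.chkBlocks_get 60 360 chk_facts6 t (by omega)
  rcases Nat.lt_or_ge j 480 with h7 | h7
  · obtain ⟨t, rfl⟩ : ∃ t, j = 420 + t := ⟨j - 420, by omega⟩
    exact cert.chkBlocks_get 60 420 chk_facts7 t (by omega)
  rcases Nat.lt_or_ge j 540 with h8 | h8
  · obtain ⟨t, rfl⟩ : ∃ t, j = 480 + t := ⟨j - 480, by omega⟩
    exact cert.chkBlocks_get 60 480 chk_facts8 t (by omega)
  rcases Nat.lt_or_ge j 600 with h9 | h9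
  · obtain ⟨t, rfl⟩ : ∃ t, j = 540 + t := ⟨j - 540, by omega⟩
    exact cert.chkBlocks_get 60 540 chk_facts9 t (by omega)
  rcases Nat.lt_or_ge j 660 with h10 | h10
  · obtain ⟨t, rfl⟩ : ∃ t, j = 600 + t := ⟨j - 600, by omega⟩
    exact cert.chkBlocks_get 60 600 chk_facts10 t (by omega)
  rcases Nat.lt_or_ge j 720 with h11 | h11
  · obtain ⟨t, rfl⟩ : ∃ t, j = 660 + t := ⟨j - 660, by omega⟩
    exact cert.chkBlocks_get 60 660 chk_facts11 t (by omega)
  rcases Nat.lt_or_ge j 780 with h12 | h12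
  · obtain ⟨t, rfl⟩ : ∃ t, j = 720 + t := ⟨j - 720, by omega⟩
    exact cert.chkBlocks_get 60 720 chk_facts12 t (by omega)
  rcases Nat.lt_or_ge j 823 with h13 | h13
  · obtain ⟨t, rfl⟩ : ∃ t, j = 780 + t := ⟨j - 780, by omega⟩
    exact cert.chkBlocks_get 43 780 chk_facts13 t (by omega)
  omega

theorem chk_rows : cert.chkRows table live fin 12600 0 = true := by decide +kernel

theorem covered : CosetInv.Covered cert table live fin where
  hn := by decide +kernel
  ivlt := by decide +kernel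
  facts := ⟨823, by decide +kernel, facts_ok⟩
  rows := fun i hi => cert.chkRows_get 12600 0 chk_rows i (Nat.zero_le _) (lt_of_lt_of_le hi (Nat.le_add_left _ _))
  root := by decide +kernel

theorem chk_points : table.chkPoints validW 12600 0 = true := by decide +kernel

theorem valid : table.Valid validW where
  range := fun i hi => (table.chkPoints_get validW 12600 0 chk_points i (Nat.zero_le _) (lt_of_lt_of_le hi (Nat.le_add_left _ _))).1
  points := fun i hi => (table.chkPoints_get validW 12600 0 chk_points i (Nat.zero_le _) (lt_of_lt_of_le hi (Nat.le_add_left _ _))).2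

theorem pairs : CosetInv.Pairs table validW cert.iv := ⟨by decide +kernel, by decide +kernel, by decide +kernel⟩

theorem chk_orbit : table.chkOrbit [[0], [1], [2], [3]] orbPts orbPos orbPar 12600 12600 0 = true := by decide +kernel

theorem orb_ok : ∀ k < table.n, Table.OrbitOK table [[0], [1], [2], [3]] orbPts orbPos orbPar table.n k :=
  fun k hk => table.chkOrbit_get [[0], [1], [2], [3]] orbPts orbPos orbPar 12600 12600 0 chk_orbit k (Nat.zero_le _) (lt_of_lt_of_le hk (Nat.le_add_left _ _))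

theorem orb_root : field orbPts 128 20 0 = 0 := by decide +kernel

end CfsgLib.InvChar.SporHN.T12600
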